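import Cfsg.Agent.Lib.Helper11.MinDeg.CaseIA

/-! F6I of the S2140 front: `n = 3` in characteristic 2. -/

set_option autoImplicit false

namespace Cfsg.Agent.Lib.Helper11.MinDeg

open Matrix

variable {F : Type*} [Field F]

/-- F6I: `n = 3` in characteristic 2. -/
theorem caseI_I (h2 : ringChar F = 2)
    (H : Subgroup (SpecialLinearGroup (Fin 3) F))
    (hfac : ∀ v : Fin 3 → F, v ≠ 0 → ∀ x : SpecialLinearGroup (Fin 3) F, ∃ a ∈ A v, a * x ∈ H)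
    (h : ∀ v : Fin 3 → F, v ≠ 0 → A v ⊓ H = ⊥) : False := by
  classical
  have hchar : CharP F 2 := ringChar.of_eq h2
  set e0 : Fin 3 → F := Pi.single 0 1 with he0def
  set e1 : Fin 3 → F := Pi.single 1 1 with he1def
  set ξ : Fin 3 → F := Pi.single 2 1 with hξdef
  have he0 : e0 ≠ 0 := Pi.single_ne_zero_iff.2 one_ne_zero
  have hξ0 : ξ ⬝ᵥ e0 = 0 := by
    rw [he0def, hξdef, single_dotProduct, one_mul, Pi.single_apply, if_neg (by decide)]
  have hξ1 : ξ ⬝ᵥ e1 = 0 := by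
    rw [he1def, hξdef, single_dotProduct, one_mul, Pi.single_apply, if_neg (by decide)]
  have hξne : ξ ≠ 0 := Pi.single_ne_zero_iff.2 one_ne_zero
  set t := tv e1 ξ with htdef
  obtain ⟨a, ha, hg⟩ := hfac e0 he0 t
  obtain ⟨α, hα, rfl⟩ := (mem_A_iff he0 a).1 ha
  -- g² ∈ A e0 ⊓ H
  have hg2 : (tv e0 α * t) * (tv e0 α * t) ∈ H := H.mul_mem hg hg
  have hgeq : (tv e0 α * t) * (tv e0 α * t) = tv e0 α * (t * tv e0 α * t⁻¹) * (t * t) := by group
  have htt : t * t = 1 := by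
    rw [htdef, tv_mul_tv hξ1 hξ1, CharTwo.add_self_eq_zero, tv_zero]
  have hβ : (α - (α ⬝ᵥ e1) • ξ) ⬝ᵥ e0 = 0 := by
    rw [sub_dotProduct, hα, smul_dotProduct, hξ0, smul_zero, sub_zero]
  rw [hgeq, htt, mul_one, htdef, tv_conj_tv_fix hξ1 hα hξ0, tv_mul_tv hα hβ] at hg2
  have hsum : (α + (α - (α ⬝ᵥ e1) • ξ)) ⬝ᵥ e0 = 0 := by rw [add_dotProduct, hα, hβ, add_zero]
  have hg3 : tv e0 (α + (α - (α ⬝ᵥ e1) • ξ)) ∈ A e0 ⊓ H := ⟨tv_mem_A hsum, hg2⟩
  rw [h e0 he0, Subgroup.mem_bot, tv_eq_one_iff he0 hsum] at hg3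
  have hα1 : α ⬝ᵥ e1 = 0 := by
    have h5 : α + (α - (α ⬝ᵥ e1) • ξ) = -((α ⬝ᵥ e1) • ξ) := by
      rw [← add_sub_assoc, CharTwo.add_self_eq_zero, zero_sub]
    rw [h5, neg_eq_zero] at hg3
    rcases smul_eq_zero.1 hg3 with h6 | h6
    · exact h6
    · exact absurd h6 hξne
  -- α = (α 2) • ξ
  have hα_eq : α = (α 2) • ξ := by
    have h0 : α 0 = 0 := by
      rw [he0def, dotProduct_single, mul_one] at hα; exact hα
    have h1 : α 1 = 0 := by
      rw [he1def, dotProduct_single, mul_one] at hα1; exact hα1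
    ext i
    fin_cases i
    · simp [h0, hξdef]
    · simp [h1, hξdef]
    · simp [hξdef]
  set κ : F := α 2 with hκ
  have hw : κ • e0 + e1 ≠ 0 := by
    intro h0
    have := congrFun h0 1
    simp [he0def, he1def] at this
  have hξw : ξ ⬝ᵥ (κ • e0 + e1) = 0 := by
    rw [dotProduct_add, dotProduct_smul, hξ0, hξ1, smul_zero, add_zero]
  have hgeq2 : tv e0 α * t = tv (κ • e0 + e1) ξ := by
    rw [hα_eq, ← tv_smul_left, htdef, tv_mul_tv' (by rw [dotProduct_smul, hξ0, smul_zero]) hξ1]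
  rw [hgeq2] at hg
  have hg1 : tv (κ • e0 + e1) ξ ∈ A (κ • e0 + e1) ⊓ H := ⟨tv_mem_A hξw, hg⟩
  rw [h _ hw, Subgroup.mem_bot, tv_eq_one_iff hw hξw] at hg1
  exact hξne hg1

end Cfsg.Agent.Lib.Helper11.MinDeg
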