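import Cfsg.Agent.Lib.Helper2.MinDegFactor
import Cfsg.Agent.Lib.Helper2.MinDegCaseIC
import Cfsg.Agent.Lib.Helper11.MinDeg.CaseII3

/-! assembly of case (i) from its sub-pieces (F6R, F6A, F6C, F6I) -/

set_option autoImplicit false

namespace Cfsg.Agent.Lib.Helper11.MinDeg

open Matrix

variable {F : Type*} [Field F] [Fintype F] {n : ℕ}

theorem exists_pow_ne_one {q : ℕ} (hq : Fintype.card F = q) (hdiv : ¬ (q - 1 ∣ n)) :
    ∃ μ : F, μ ≠ 0 ∧ μ ^ n ≠ 1 := by
  classical
  by_contra hcon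
  push Not at hcon
  apply hdiv
  obtain ⟨ζ, hζ⟩ := IsCyclic.exists_generator (α := Fˣ)
  have hord : orderOf ζ = q - 1 := by
    rw [orderOf_eq_card_of_forall_mem_zpowers hζ, Nat.card_eq_fintype_card, Fintype.card_units, hq]
  rw [← hord]
  apply orderOf_dvd_of_pow_eq_one
  have := hcon (ζ : F) (Units.ne_zero ζ)
  exact Units.ext (by simpa using this)

theorem ringChar_dvd_card : ringChar F ∣ Fintype.card F := by
  have : CharP F (ringChar F) := ringChar.charP F
  have h2 : ((Fintype.card F : ℕ) : F) = 0 := Nat.cast_card_eq_zero F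
  exact (CharP.cast_eq_zero_iff F (ringChar F) _).1 h2

theorem caseI_false (hn : 3 ≤ n) {q : ℕ} (hq : Fintype.card F = q) (hexc : ¬ (n = 4 ∧ q = 2))
    (H : Subgroup (SpecialLinearGroup (Fin n) F))
    (hidx : H.index = q ^ (n - 1)) (h : ∀ v : Fin n → F, v ≠ 0 → A v ⊓ H = ⊥) : False := by
  have hfac : ∀ v : Fin n → F, v ≠ 0 → ∀ x : SpecialLinearGroup (Fin n) F,
      ∃ a ∈ A v, a * x ∈ H := fun v hv x => caseI_factor hq H hidx h hv x
  by_cases hdiv : q - 1 ∣ n
  swap
  · obtain ⟨μ, hμ0, hμ⟩ := exists_pow_ne_one hq hdiv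
    exact caseI_A hn hμ0 hμ H hfac h
  by_cases hC : 5 ≤ n ∨ (n = 4 ∧ ringChar F ≠ 2)
  · have h4 : 4 ≤ n := by rcases hC with h5 | ⟨h4, _⟩ <;> omega
    refine caseI_C h4 ?_ H hfac h
    rcases hC with h5 | ⟨_, hc⟩
    · exact Or.inl h5
    · exact Or.inr hc
  push Not at hC
  obtain ⟨hn5, hn4⟩ := hC
  have hp : (ringChar F).Prime := by
    have : CharP F (ringChar F) := ringChar.charP F
    exact CharP.char_is_prime F (ringChar F)
  have hpq : ringChar F ∣ q := hq ▸ ringChar_dvd_card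
  have hq1 : 1 < q := by rw [← hq]; exact Fintype.one_lt_card
  have hn34 : n = 3 ∨ n = 4 := by omega
  rcases hn34 with h3 | h4
  · -- n = 3, q - 1 ∣ 3, so q = 2 or q = 4
    subst h3
    have hle : q - 1 ≤ 3 := Nat.le_of_dvd (by norm_num) hdiv
    have hq24 : q = 2 ∨ q = 4 := by
      have : q - 1 = 1 ∨ q - 1 = 3 := by
        have h3p : Nat.Prime 3 := by norm_num
        exact (Nat.dvd_prime h3p).1 hdiv
      omega
    have h2 : ringChar F = 2 := by
      rcases hq24 with h | h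
      · rw [h] at hpq
        exact (Nat.prime_dvd_prime_iff_eq hp Nat.prime_two).1 hpq
      · rw [h] at hpq
        have : ringChar F ∣ 2 ^ 2 := by simpa using hpq
        exact (Nat.prime_dvd_prime_iff_eq hp Nat.prime_two).1 (hp.dvd_of_dvd_pow this)
    exact caseI_I h2 H hfac h
  · -- n = 4, characteristic 2, q - 1 ∣ 4 with q even: q = 2
    have h2 : ringChar F = 2 := hn4 h4
    apply hexc
    refine ⟨h4, ?_⟩
    rw [h2] at hpq
    rw [h4] at hdiv
    obtain ⟨k, hk⟩ := hpq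
    have hle : q - 1 ≤ 4 := Nat.le_of_dvd (by norm_num) hdiv
    have hq5 : q ≤ 5 := by omega
    interval_cases q <;> omega

end Cfsg.Agent.Lib.Helper11.MinDeg
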