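import Cfsg.Agent.Lib.Helper1.MinDegTv

/-! F6A of the S2140 front: a central element of the Levi factor acting non-trivially on `A e₀`. -/

set_option autoImplicit false

namespace Cfsg.Agent.Lib.Helper11.MinDeg

open Matrix

variable {F : Type*} [Field F] {n : ℕ}

/-- conjugation by `tv y ξ` when `ξ ⬝ v = 0` -/
theorem tv_conj_tv_fix {y ξ v φ : Fin n → F} (hξ : ξ ⬝ᵥ y = 0) (h : φ ⬝ᵥ v = 0)
    (hv : ξ ⬝ᵥ v = 0) :
    tv y ξ * tv v φ * (tv y ξ)⁻¹ = tv v (φ - (φ ⬝ᵥ y) • ξ) := by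
  rw [tv_conj_tv hξ h, hv, zero_smul, add_zero]

/-- the diagonal matrix `diag(μ⁻¹^(n-1), μ, …, μ)` (first entry at index `i0`) -/
noncomputable def dz (i0 : Fin n) (μ : F) : Fin n → F := fun i => if i = i0 then (μ⁻¹) ^ (n - 1) else μ

theorem det_dz (i0 : Fin n) {μ : F} (hμ0 : μ ≠ 0) : (Matrix.diagonal (dz i0 μ)).det = 1 := by
  classical
  rw [Matrix.det_diagonal]
  unfold dz
  rw [Finset.prod_ite, Finset.prod_const, Finset.prod_const]
  have h1 : (Finset.univ.filter fun i : Fin n => i = i0).card = 1 := by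
    rw [Finset.filter_eq' Finset.univ i0]; simp
  have h2 : (Finset.univ.filter fun i : Fin n => ¬ i = i0).card = n - 1 := by
    have := Finset.card_filter_add_card_filter_not (s := (Finset.univ : Finset (Fin n)))
      (fun i : Fin n => i = i0)
    rw [h1, Finset.card_univ, Fintype.card_fin] at this
    omega
  rw [h1, h2, pow_one, ← mul_pow, inv_mul_cancel₀ hμ0, one_pow]

/-- `z = diag(μ⁻¹^(n-1), μ, …, μ)` -/
noncomputable def zel (i0 : Fin n) {μ : F} (hμ0 : μ ≠ 0) : SpecialLinearGroup (Fin n) F :=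
  ⟨Matrix.diagonal (dz i0 μ), det_dz i0 hμ0⟩

theorem zel_smul (i0 : Fin n) {μ : F} (hμ0 : μ ≠ 0) (w : Fin n → F) :
    zel i0 hμ0 • w = fun i => dz i0 μ i * w i := by
  rw [Matrix.SpecialLinearGroup.smul_def]
  show Matrix.diagonal (dz i0 μ) *ᵥ w = _
  ext i
  rw [Matrix.mulVec_diagonal]

/-- the row vector `φ ∘ z⁻¹` -/
theorem vecMul_zel_inv (i0 : Fin n) {μ : F} (hμ0 : μ ≠ 0) (φ : Fin n → F) :
    φ ᵥ* ((zel i0 hμ0)⁻¹ : SpecialLinearGroup (Fin n) F).1 = fun i => φ i * (dz i0 μ i)⁻¹ := by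
  have hd : ∀ i, dz i0 μ i ≠ 0 := by
    intro i
    unfold dz
    split_ifs
    · exact pow_ne_zero _ (inv_ne_zero hμ0)
    · exact hμ0
  have h1 : (φ ᵥ* ((zel i0 hμ0)⁻¹ : SpecialLinearGroup (Fin n) F).1) ᵥ* (zel i0 hμ0).1 = φ := by
    rw [Matrix.vecMul_vecMul]
    have : ((zel i0 hμ0)⁻¹ : SpecialLinearGroup (Fin n) F).1 * (zel i0 hμ0).1 = 1 := by
      rw [← Matrix.SpecialLinearGroup.coe_mul, inv_mul_cancel, Matrix.SpecialLinearGroup.coe_one]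
    rw [this, Matrix.vecMul_one]
  ext i
  have h2 := congrFun h1 i
  have h3 : (zel i0 hμ0).1 = Matrix.diagonal (dz i0 μ) := rfl
  rw [h3, Matrix.vecMul_diagonal] at h2
  rw [← h2, mul_assoc, mul_inv_cancel₀ (hd i), mul_one]

end Cfsg.Agent.Lib.Helper11.MinDeg

namespace Cfsg.Agent.Lib.Helper11.MinDeg

open Matrix

variable {F : Type*} [Field F] {n : ℕ}

/-- F6A: a central element of the Levi factor acting non-trivially on `A v`. -/
theorem caseI_A (hn : 3 ≤ n) {μ : F} (hμ0 : μ ≠ 0) (hμ : μ ^ n ≠ 1)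
    (H : Subgroup (SpecialLinearGroup (Fin n) F))
    (hfac : ∀ v : Fin n → F, v ≠ 0 → ∀ x : SpecialLinearGroup (Fin n) F, ∃ a ∈ A v, a * x ∈ H)
    (h : ∀ v : Fin n → F, v ≠ 0 → A v ⊓ H = ⊥) : False := by
  classical
  let i0 : Fin n := ⟨0, by omega⟩
  let i1 : Fin n := ⟨1, by omega⟩
  let i2 : Fin n := ⟨2, by omega⟩
  have h01 : i1 ≠ i0 := by simp [i0, i1, Fin.ext_iff]
  have h02 : i2 ≠ i0 := by simp [i0, i2, Fin.ext_iff]
  have h12 : i2 ≠ i1 := by simp [i1, i2, Fin.ext_iff]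
  set e0 : Fin n → F := Pi.single i0 1 with he0def
  set e1 : Fin n → F := Pi.single i1 1 with he1def
  set ξ : Fin n → F := Pi.single i2 1 with hξdef
  have he0 : e0 ≠ 0 := Pi.single_ne_zero_iff.2 one_ne_zero
  have hξ0 : ξ ⬝ᵥ e0 = 0 := by
    rw [he0def, hξdef, single_dotProduct, one_mul, Pi.single_apply, if_neg h02]
  have hξ1 : ξ ⬝ᵥ e1 = 0 := by
    rw [he1def, hξdef, single_dotProduct, one_mul, Pi.single_apply, if_neg h12]
  have hξne : ξ ≠ 0 := Pi.single_ne_zero_iff.2 one_ne_zero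
  set z := zel i0 hμ0 with hzdef
  set t := tv e1 ξ with htdef
  obtain ⟨a0, ha0, hz0⟩ := hfac e0 he0 z
  obtain ⟨α0, hα0, rfl⟩ := (mem_A_iff he0 a0).1 ha0
  obtain ⟨a, ha, hg⟩ := hfac e0 he0 t
  obtain ⟨α, hα, rfl⟩ := (mem_A_iff he0 a).1 ha
  set lam : F := (μ⁻¹) ^ (n - 1) with hlam
  set c : F := lam * μ⁻¹ with hcdef
  have hc : c ≠ 1 := by
    intro hc1
    apply hμ
    have : c = (μ ^ n)⁻¹ := by
      rw [hcdef, hlam, ← pow_succ, inv_pow]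
      congr 2
      omega
    rw [this] at hc1
    exact inv_eq_one.1 hc1
  have hze0 : (fun i => dz i0 μ i * e0 i) = lam • e0 := by
    ext i
    by_cases hi : i = i0
    · subst hi; simp [dz, he0def, hlam]
    · simp [dz, he0def, hi, Pi.single_apply]
  have ez : ∀ φ : Fin n → F, φ ⬝ᵥ e0 = 0 → z * tv e0 φ * z⁻¹ = tv e0 (c • φ) := by
    intro φ hφ
    have hφ0 : φ i0 = 0 := by
      rw [he0def, dotProduct_single, mul_one] at hφ
      exact hφ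
    have h2 : (fun i => φ i * (dz i0 μ i)⁻¹) = μ⁻¹ • φ := by
      ext i
      by_cases hi : i = i0
      · subst hi; simp [hφ0]
      · simp [dz, hi, mul_comm]
    rw [conj_tv z hφ, hzdef, vecMul_zel_inv, zel_smul, hze0, h2, tv_smul_left, smul_smul]
  have et : z * t * z⁻¹ = t := by
    have h1 : (fun i => dz i0 μ i * e1 i) = μ • e1 := by
      ext i
      by_cases hi : i = i1
      · subst hi; simp [dz, he1def, h01]
      · simp [he1def, hi, Pi.single_apply]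
    have h2 : (fun i => ξ i * (dz i0 μ i)⁻¹) = μ⁻¹ • ξ := by
      ext i
      by_cases hi : i = i2
      · subst hi; simp [dz, hξdef, h02, mul_comm]
      · simp [hξdef, hi, Pi.single_apply]
    rw [htdef, conj_tv z hξ1, hzdef, vecMul_zel_inv, zel_smul, h1, h2, tv_smul_left, smul_smul,
      mul_inv_cancel₀ hμ0, one_smul]
  -- t normalises A e0
  have eta : t * (tv e0 α0)⁻¹ * t⁻¹ = tv e0 (-α0 + (α0 ⬝ᵥ e1) • ξ) := by
    have hneg : (-α0) ⬝ᵥ e0 = 0 := by rw [neg_dotProduct, hα0, neg_zero]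
    rw [tv_inv hα0, htdef, tv_conj_tv_fix hξ1 hneg hξ0, neg_dotProduct, neg_smul, sub_neg_eq_add]
  -- the commutator
  have hk : (tv e0 α0 * z) * (tv e0 α * t) * (tv e0 α0 * z)⁻¹ * (tv e0 α * t)⁻¹ ∈ H :=
    H.mul_mem (H.mul_mem (H.mul_mem hz0 hg) (H.inv_mem hz0)) (H.inv_mem hg)
  have hkeq : (tv e0 α0 * z) * (tv e0 α * t) * (tv e0 α0 * z)⁻¹ * (tv e0 α * t)⁻¹ =
      tv e0 α0 * (z * tv e0 α * z⁻¹) * ((z * t * z⁻¹) * t⁻¹) * (t * (tv e0 α0)⁻¹ * t⁻¹) *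
        (tv e0 α)⁻¹ := by group
  have hcα : (c • α) ⬝ᵥ e0 = 0 := by rw [smul_dotProduct, hα, smul_zero]
  have hβ : (-α0 + (α0 ⬝ᵥ e1) • ξ) ⬝ᵥ e0 = 0 := by
    rw [add_dotProduct, neg_dotProduct, hα0, smul_dotProduct, hξ0, smul_zero, neg_zero, add_zero]
  have hnegα : (-α) ⬝ᵥ e0 = 0 := by rw [neg_dotProduct, hα, neg_zero]
  rw [hkeq, ez α hα, et, mul_inv_cancel, mul_one, eta, tv_inv hα, tv_mul_tv hα0 hcα,
    tv_mul_tv (by rw [add_dotProduct, hα0, hcα, add_zero]) hβ,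
    tv_mul_tv (by rw [add_dotProduct, add_dotProduct, hα0, hcα, hβ, add_zero, add_zero]) hnegα] at hk
  have hsum : (α0 + c • α + (-α0 + (α0 ⬝ᵥ e1) • ξ) + -α) ⬝ᵥ e0 = 0 := by
    rw [add_dotProduct, add_dotProduct, add_dotProduct, hα0, hcα, hβ, hnegα]; simp
  have hk1 : tv e0 (α0 + c • α + (-α0 + (α0 ⬝ᵥ e1) • ξ) + -α) ∈ A e0 ⊓ H := ⟨tv_mem_A hsum, hk⟩
  rw [h e0 he0, Subgroup.mem_bot, tv_eq_one_iff he0 hsum] at hk1
  -- so α = κ ξ
  have hc1 : c - 1 ≠ 0 := sub_ne_zero.2 hc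
  have hα_eq : α = (-(α0 ⬝ᵥ e1) / (c - 1)) • ξ := by
    have h5 : (c - 1) • α = -((α0 ⬝ᵥ e1) • ξ) := by
      have h6 : α0 + c • α + (-α0 + (α0 ⬝ᵥ e1) • ξ) + -α = (c - 1) • α + (α0 ⬝ᵥ e1) • ξ := by
        rw [sub_smul, one_smul]; abel
      rw [h6] at hk1
      exact eq_neg_of_add_eq_zero_left hk1
    have h7 : α = (c - 1)⁻¹ • ((c - 1) • α) := by rw [smul_smul, inv_mul_cancel₀ hc1, one_smul]
    rw [h7, h5, ← neg_smul, smul_smul]
    congr 1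
    field_simp
  -- g is a transvection in H
  set κ : F := -(α0 ⬝ᵥ e1) / (c - 1) with hκ
  have hw : κ • e0 + e1 ≠ 0 := by
    intro h0
    have := congrFun h0 i1
    simp [he0def, he1def, Pi.single_apply, h01] at this
  have hξw : ξ ⬝ᵥ (κ • e0 + e1) = 0 := by
    rw [dotProduct_add, dotProduct_smul, hξ0, hξ1, smul_zero, add_zero]
  have hgeq : tv e0 α * t = tv (κ • e0 + e1) ξ := by
    rw [hα_eq, ← tv_smul_left, htdef, tv_mul_tv' (by rw [dotProduct_smul, hξ0, smul_zero]) hξ1]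
  rw [hgeq] at hg
  have hg1 : tv (κ • e0 + e1) ξ ∈ A (κ • e0 + e1) ⊓ H := ⟨tv_mem_A hξw, hg⟩
  rw [h _ hw, Subgroup.mem_bot, tv_eq_one_iff hw hξw] at hg1
  exact hξne hg1

end Cfsg.Agent.Lib.Helper11.MinDeg
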