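import Mathlib

/-!
# Minimal index of proper subgroups of `SL_n(q)` (front for S2140): shared definitions

`tv v φ` is the transvection `1 + v φᵀ` (when `φ ⬝ᵥ v = 0`), `A v = lineStab (F ∙ v)` the group of all
transvections with centre `F v` (Mathlib's `lineStab`), `A2 v w` those fixing `w` as well.
-/

set_option autoImplicit false

namespace Cfsg.Agent.Lib.Helper11.MinDeg

open Matrix

variable {F : Type*} [Field F] {n : ℕ}

/-- the matrix `1 + v φᵀ` -/
def tvMat (v φ : Fin n → F) : Matrix (Fin n) (Fin n) F := 1 + vecMulVec v φ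

theorem tvMat_mulVec (v φ w : Fin n → F) : tvMat v φ *ᵥ w = w + (φ ⬝ᵥ w) • v := by
  unfold tvMat
  rw [add_mulVec, one_mulVec]
  congr 1
  ext i
  simp [mulVec, vecMulVec_apply, dotProduct, Finset.mul_sum, mul_comm, mul_left_comm]

theorem det_tvMat {v φ : Fin n → F} (h : φ ⬝ᵥ v = 0) : (tvMat v φ).det = 1 := by
  unfold tvMat
  have : vecMulVec v φ = replicateCol Unit v * replicateRow Unit φ := by
    ext i j
    simp [vecMulVec_apply, Matrix.mul_apply]
  rw [this, det_one_add_replicateCol_mul_replicateRow, h, add_zero]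

open Classical in
/-- the matrix of `tv`: `1 + v φᵀ` if `φ ⬝ᵥ v = 0`, else `1`. -/
noncomputable def tvM (v φ : Fin n → F) : Matrix (Fin n) (Fin n) F :=
  if φ ⬝ᵥ v = 0 then tvMat v φ else 1

theorem det_tvM (v φ : Fin n → F) : (tvM v φ).det = 1 := by
  unfold tvM
  split_ifs with h
  · exact det_tvMat h
  · exact det_one

/-- the transvection `1 + v φᵀ` as an element of `SL_n(F)`; it is `1` when `φ ⬝ᵥ v ≠ 0`. -/
noncomputable def tv (v φ : Fin n → F) : SpecialLinearGroup (Fin n) F :=
  ⟨tvM v φ, det_tvM v φ⟩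

theorem tv_coe {v φ : Fin n → F} (h : φ ⬝ᵥ v = 0) :
    ((tv v φ : SpecialLinearGroup (Fin n) F) : Matrix (Fin n) (Fin n) F) = tvMat v φ := by
  show tvM v φ = tvMat v φ
  unfold tvM
  rw [if_pos h]

theorem tv_smul {v φ : Fin n → F} (h : φ ⬝ᵥ v = 0) (w : Fin n → F) :
    tv v φ • w = w + (φ ⬝ᵥ w) • v := by
  rw [Matrix.SpecialLinearGroup.smul_def, tv_coe h]
  exact tvMat_mulVec v φ w

/-- all transvections with centre `F v` (together with `1`): Mathlib's `lineStab` of the line `F v`. -/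
abbrev A (v : Fin n → F) : Subgroup (SpecialLinearGroup (Fin n) F) :=
  SpecialLinearGroup.lineStab (F ∙ v)

/-- the transvections with centre `F v` fixing the vector `w` (i.e. whose axis contains `w`). -/
def A2 (v w : Fin n → F) : Subgroup (SpecialLinearGroup (Fin n) F) :=
  A v ⊓ MulAction.stabilizer (SpecialLinearGroup (Fin n) F) w

/-- `g` is a (non-identity) transvection. -/
def IsTv (g : SpecialLinearGroup (Fin n) F) : Prop :=
  ∃ v φ : Fin n → F, v ≠ 0 ∧ φ ≠ 0 ∧ φ ⬝ᵥ v = 0 ∧ g = tv v φ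

/-- the number of points of the projective space: `(q^n - 1)/(q - 1)`. -/
def theta (q n : ℕ) : ℕ := (q ^ n - 1) / (q - 1)

end Cfsg.Agent.Lib.Helper11.MinDeg
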