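import Cfsg.Agent.Lib.Helper11.MinDeg.CaseI
import Cfsg.Agent.Lib.Helper9.MinDegFisher
import Cfsg.Agent.Lib.Helper7.MinDegCaseII
import Cfsg.Agent.Lib.Helper6.MinDegDichotomy
import Cfsg.Agent.S0249

/-! S2140 front: assembly. Minimal index of a proper subgroup of `PSL_n(q)`. -/

set_option autoImplicit false

namespace Cfsg.Agent.Lib.Helper11.MinDeg

open Matrix
open scoped LinearAlgebra.Projectivization Pointwise

variable {F : Type*} [Field F] [Fintype F] {n : ℕ}

theorem card_proj {q : ℕ} (hq : Fintype.card F = q) :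
    Nat.card (ℙ F (Fin n → F)) = theta q n := by
  rw [Projectivization.card'']
  simp [theta, Nat.card_eq_fintype_card, hq]

theorem main_SL (hn : 3 ≤ n) {q : ℕ} (hq : Fintype.card F = q) (hexc : ¬ (n = 4 ∧ q = 2))
    (H : Subgroup (SpecialLinearGroup (Fin n) F)) (hH : H ≠ ⊤) : theta q n ≤ H.index := by
  classical
  by_contra hlt
  push Not at hlt
  have : Nontrivial (Fin n) := Fin.nontrivial_iff_two_le.2 (by omega)
  -- H is transitive on points
  have htr : MulAction.IsPretransitive H (ℙ F (Fin n → F)) := by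
    by_contra hntr
    have := fisher (G := SpecialLinearGroup (Fin n) F) (X := ℙ F (Fin n → F)) H hntr
    rw [card_proj hq] at this
    omega
  -- H contains no full `A v`
  have hno : ∀ v : Fin n → F, v ≠ 0 → ¬ A v ≤ H := by
    intro v hv hle
    apply hH
    rw [eq_top_iff, ← Cfsg.Agent.S0249.iSup_lineStab_eq_top]
    apply iSup_le
    intro p
    obtain ⟨⟨h, hh⟩, hhp⟩ := htr.exists_smul_eq (Projectivization.mk F v hv) p
    have hp : p.submodule = h • (F ∙ v) := by
      rw [← hhp]
      show ((h : SpecialLinearGroup (Fin n) F) • Projectivization.mk F v hv).submodule = _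
      rw [PSL.smul_submodule, Projectivization.submodule_mk]
    rw [hp, SpecialLinearGroup.lineStab_smul]
    intro x hx
    rw [Subgroup.mem_pointwise_smul_iff_inv_smul_mem] at hx
    have h1 := hle hx
    simp only [MulAut.smul_def, MulAut.inv_apply, MulAut.conj_symm_apply] at h1
    have h2 := H.mul_mem (H.mul_mem hh h1) (H.inv_mem hh)
    simpa [mul_assoc] using h2
  rcases dichotomy hn hq H htr hno hlt with ⟨hidx, h⟩ | h
  · exact caseI_false hn hq hexc H hidx h
  · exact caseII_false hn H h

end Cfsg.Agent.Lib.Helper11.MinDeg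

namespace Cfsg.Agent.Lib.Helper11.MinDeg

open Matrix
open scoped LinearAlgebra.Projectivization Pointwise

variable {F : Type*} [Field F] [Fintype F] {n : ℕ}

theorem main_PSL (hn : 3 ≤ n) {q : ℕ} (hq : Fintype.card F = q) (hexc : ¬ (n = 4 ∧ q = 2))
    (H' : Subgroup (Matrix.ProjectiveSpecialLinearGroup (Fin n) F)) (hH : H' ≠ ⊤) :
    theta q n ≤ H'.index := by
  have hsurj : Function.Surjective
      (QuotientGroup.mk' (Subgroup.center (SpecialLinearGroup (Fin n) F))) :=
    QuotientGroup.mk'_surjective _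
  have h1 : (H'.comap (QuotientGroup.mk' (Subgroup.center (SpecialLinearGroup (Fin n) F)))).index
      = H'.index := Subgroup.index_comap_of_surjective H' hsurj
  have h2 : H'.comap (QuotientGroup.mk' (Subgroup.center (SpecialLinearGroup (Fin n) F))) ≠ ⊤ := by
    intro h
    apply hH
    rw [eq_top_iff]
    intro x _
    obtain ⟨y, rfl⟩ := hsurj x
    have : y ∈ H'.comap (QuotientGroup.mk' (Subgroup.center (SpecialLinearGroup (Fin n) F))) := by
      rw [h]; trivial
    exact this
  rw [← h1]
  exact main_SL hn hq hexc _ h2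

theorem exists_index_PSL (hn : 3 ≤ n) {q : ℕ} (hq : Fintype.card F = q) :
    ∃ H' : Subgroup (Matrix.ProjectiveSpecialLinearGroup (Fin n) F), H'.index = theta q n := by
  have : Nontrivial (Fin n) := Fin.nontrivial_iff_two_le.2 (by omega)
  have hne : Nonempty (ℙ F (Fin n → F)) := by
    refine ⟨Projectivization.mk F (Pi.single ⟨0, by omega⟩ 1) ?_⟩
    exact Pi.single_ne_zero_iff.2 one_ne_zero
  obtain ⟨p⟩ := hne
  refine ⟨MulAction.stabilizer _ p, ?_⟩
  rw [MulAction.index_stabilizer_of_transitive, card_proj hq]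

theorem S2140_main {q : ℕ} (hF : Fintype.card F = q) (n : ℕ) (hn : 3 ≤ n)
    (hexc : ¬ (n = 4 ∧ q = 2)) :
    (∀ H : Subgroup (Matrix.ProjectiveSpecialLinearGroup (Fin n) F), H ≠ ⊤ →
      (q ^ n - 1) / (q - 1) ≤ H.index) ∧
    (∃ H : Subgroup (Matrix.ProjectiveSpecialLinearGroup (Fin n) F),
      H.index = (q ^ n - 1) / (q - 1)) :=
  ⟨fun H hH => main_PSL hn hF hexc H hH, exists_index_PSL hn hF⟩

end Cfsg.Agent.Lib.Helper11.MinDeg
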